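/-
The commutator relations in the representation of degree 52.
-/
import Cfsg.Agent.Lib.Comp.F42x.Mat

set_option autoImplicit false
set_option maxRecDepth 100000
set_option Elab.async false

namespace Cfsg.Lib.Comp.F42x

theorem c0 : chkR 0 = true := by decide +kernel

theorem c1 : chkR 8 = true := by decide +kernel

theorem c2 : chkR 16 = true := by decide +kernel

end Cfsg.Lib.Comp.F42x
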