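/-
The commutator relations in the representation of degree 52.
-/
import Cfsg.Agent.Lib.Comp.F42x.Mat

set_option autoImplicit false
set_option maxRecDepth 100000
set_option Elab.async false

namespace Cfsg.Lib.Comp.F42x

theorem c3 : chkR 24 = true := by decide +kernel

theorem c4 : chkR 32 = true := by decide +kernel

theorem c5 : chkR 40 = true := by decide +kernel

end Cfsg.Lib.Comp.F42x
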