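/-
Central extensions of `F₄(2)`: the root elements lift up to one central involution.
-/
import Cfsg.Agent.Lib.Comp.F42x.Tab

set_option autoImplicit false

namespace Cfsg.Lib.Comp.F42x

open Cfsg.Lie Cfsg.Lib.Chev Cfsg.Lib.Linear WtData
open scoped commutatorElement

variable {G E : Type*} [Group G] [Group E] {π : E →* G} {x : ℕ → G}

theorem Rel.ct (h : Rel x) {r s : ℕ} (c : Ct r s) : x r * x s = x s * x r := by
  by_cases e : s = r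
  · rw [e]
  obtain ⟨hr, hs, a | ⟨a, b, c⟩⟩ := c
  · exact absurd a e
  have := h.cm r hr s hs e a
  rw [b, c, h.one, mul_one] at this
  exact (commutatorElement_eq_one_iff_mul_comm.1 this).symm

theorem Rel.tm (h : Rel x) {r s p q : ℕ} (c : Tm r s p q) : ⁅x s, x r⁆ = x p * x q := by
  obtain ⟨a, b, c, d, rfl, rfl⟩ := c; exact h.cm r a s b c d

/-- The action of the monomial elements. -/
def Cj (x : ℕ → G) : Prop :=
  ∀ r < 48, ∀ s < 48, x r * x (47 - r) * x r * x s * (x r * x (47 - r) * x r)⁻¹ = x (rf r s)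

/-- The six symplectic subsystems. -/
def sp2 (h : Rel x) (hj : Cj x) (k : ℕ) (hk : k < 6) : Sp2 W8 G where
  Y a b := x (tb k a b)
  lg := trivial
  sq h' := h.sq _ (tb_lt k hk _ _ h'.2.1).1
  sym h' := congrArg x (tb_lt k hk _ _ h'.2.1).2.1
  c0 h1 h2 e := h.ct ((tb_c0 k hk _ _ h1.2.1 _ _ h2.2.1).1 e)
  c0' h1 h2 := h.ct (tb_c0' k hk _ _ h1.2.1 h2.2.1)
  c1 h1 h2 := (h.tm (tb_c1 k hk _ _ _ h1 h2)).trans (by rw [h.one, mul_one])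
  c2 h1 := by
    obtain ⟨a, b | b⟩ := tb_c2 k hk _ _ h1
    · exact h.tm b
    · exact (h.tm b).trans (h.ct a)
  conj {c d p q} h1 h2 := by
    have := hj _ (tb_lt k hk c d h1.2.1).1 _ (tb_lt k hk p q h2.2.1).1
    rw [← (tb_lt k hk c d h1.2.1).2.2, (tb_c0 k hk c d h1.2.1 p q h2.2.1).2] at this
    have e : ∀ p, sg (rt c d h1) p = sgc c d p := fun p => by rw [sg_rt, if_neg (W8.lg_ne trivial d)]; rfl
    rw [e, e]; exact this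

theorem aux {A B U V e e' : E} (h1 : ⁅A, B⁆ = e * (U * V)) (h2 : ⁅B, A⁆ = e' * (V * U)) (hU : U * U = 1) (hV : V * V = 1)
    (he : e' * e' = 1) (hc : ∀ g, e' * g = g * e') : e = e' := by
  have h3 : ⁅A, B⁆ * ⁅B, A⁆ = 1 := by rw [← commutatorElement_inv A B, mul_inv_cancel]
  rw [h1, h2, hc, mul_assoc, ← mul_assoc (U * V), mul_assoc U, ← mul_assoc V, hV, one_mul, hU, one_mul, ← he] at h3
  exact mul_right_cancel h3

theorem exists_lift (h : Rel x) (hj : Cj x) (hπ : CExt π) : ∃ (ε : E) (Z : ℕ → E), π ε = 1 ∧ ε * ε = 1 ∧ Z 48 = 1 ∧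
    (∀ r < 48, π (Z r) = x r ∧ Z r * Z r = 1) ∧ ∀ r < 48, ∀ s < 48, s ≠ r → s ≠ 47 - r →
      ⁅Z s, Z r⁆ = Z (t1 r s) * Z (t2 r s) ∨ ⁅Z s, Z r⁆ = ε * (Z (t1 r s) * Z (t2 r s)) := by
  choose y y1 y2 y3 using fun k hk => (sp2 h hj k hk).exists_lift hπ big
  change ∀ k hk (a b : Fin 8), b ≠ a.rev → π (y k hk a b) = x (tb k a b) ∧ _ at y1
  change ∀ k hk (a b c : Fin 8), b ≠ a ∧ b ≠ a.rev → (c ≠ a ∧ c ≠ a.rev) ∧ c ≠ b ∧ c ≠ b.rev → ⁅_, y k hk b c.rev⁆ = _ at y2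
  change ∀ k hk (a c : Fin 8), c ≠ a ∧ c ≠ a.rev → ⁅y k hk a c.rev, _⁆ = _ at y3
  obtain ⟨Z, hZ, z0⟩ : ∃ Z : ℕ → E, (∀ r < 48, Z r = hπ.br (x (ds r)) (x (dt r))) ∧ Z 48 = 1 :=
    ⟨fun r => if r < 48 then hπ.br (x (ds r)) (x (dt r)) else 1, fun r hr => if_pos hr, rfl⟩
  have rv : ∀ {a c : Fin 8}, c ≠ a → c.rev ≠ a.rev := fun h e => h (Fin.rev_injective e)
  have rr : ∀ a : Fin 8, a ≠ a.rev := by decide
  have z1 : ∀ k hk (a b : Fin 8), b ≠ a ∧ b ≠ a.rev → y k hk a b = Z (tb k a b) := fun k hk a b hb => by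
    obtain ⟨c, hc, ⟨e1, e2⟩ | ⟨e1, e2⟩⟩ := ds_tb k hk a b hb
    · rw [hZ _ (tb_lt k hk a b hb.2).1, e1, e2, hπ.br_eq (y1 k hk a c hc.1.2).1 (y1 k hk b _ (rv hc.2.1)).1, y2 k hk a b c hb hc]
    · rw [hZ _ (tb_lt k hk a b hb.2).1, e1, e2, hπ.br_eq (y1 k hk b c hc.2.2).1 (y1 k hk a _ (rv hc.1.1)).1,
        y2 k hk b a c ⟨hb.1.symm, fun e => hb.2 (by rw [e, Fin.rev_rev])⟩ ⟨hc.2, hc.1⟩, (y1 k hk a b hb.2).2.2]
  have z2 : ∀ r < 48, π (Z r) = x r ∧ Z r * Z r = 1 := fun r hr => by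
    obtain ⟨a, b, c⟩ := po_tb r hr
    have := y1 _ a _ _ b.2
    rw [z1 _ a _ _ b, c] at this
    exact ⟨this.1, this.2.1⟩
  have z3 : ∀ k < 6, ∀ a b : Fin 8, b ≠ a.rev → π (Z (tb k a b)) = x (tb k a b) ∧ Z (tb k a b) * Z (tb k a b) = 1 :=
    fun k hk a b hb => z2 _ (tb_lt k hk a b hb).1
  obtain ⟨e, he⟩ : ∃ e : ∀ k, k < 6 → Fin 8 → E, ∀ k hk a, y k hk a a = e k hk a * Z (tb k a a) :=
    ⟨fun k hk a => y k hk a a * (Z (tb k a a))⁻¹, fun k hk a => (inv_mul_cancel_right _ _).symm⟩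
  have e1 : ∀ k hk a, π (e k hk a) = 1 := fun k hk a => by
    have := (y1 k hk a a (rr a)).1
    rwa [he, map_mul, (z3 k hk a a (rr a)).1, mul_eq_right] at this
  have e2 : ∀ k hk a, e k hk a * e k hk a = 1 := fun k hk a => by
    have := (y1 k hk a a (rr a)).2.1
    rwa [he, mul_assoc, ← mul_assoc (Z _), ← hπ.cent _ (e1 k hk a), mul_assoc, (z3 k hk a a (rr a)).2, mul_one] at this
  have cm : ∀ k < 6, ∀ a b c d : Fin 8, b ≠ a.rev → d ≠ c.rev → a ≠ c.rev ∧ a ≠ d.rev ∧ b ≠ c.rev ∧ b ≠ d.rev →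
      Z (tb k a b) * Z (tb k c d) = Z (tb k c d) * Z (tb k a b) := fun k hk a b c d h1 h2 h3 =>
    (sp2 h hj k hk).cm0 hπ big h1 h2 h3 _ _ (z3 k hk a b h1).1 (z3 k hk c d h2).1
  have e3 : ∀ k hk (a c : Fin 8), c ≠ a ∧ c ≠ a.rev →
      ⁅Z (tb k a c.rev), Z (tb k c c)⁆ = e k hk a * (Z (tb k a a) * Z (tb k a c)) := fun k hk a c hc => by
    rw [← mul_assoc, ← he, ← z1 k hk a c hc, ← y3 k hk a c hc]
    exact hπ.comm_congr ((z3 k hk a _ (rv hc.1)).1.trans (y1 k hk a _ (rv hc.1)).1.symm)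
      ((z3 k hk c c (rr c)).1.trans (y1 k hk c c (rr c)).1.symm)
  have e4 : ∀ (n : ℕ) k hk a, (pa k a 4 : ℕ) = n → e k hk a = e 0 (by norm_num) 0 := fun n => by
    induction n using Nat.strong_induction_on with
    | _ n ih =>
    intro k hk a hn
    obtain ⟨rfl, rfl⟩ | ⟨a1, a2, a3, a4, a5, a6, a7, a8⟩ := pa_tb k hk a
    · rfl
    have b := e3 _ a1 _ _ a4
    rw [a5, a6, a7, a8] at b
    rw [← ih _ (hn ▸ Fin.lt_def.1 a2) _ a1 _ rfl]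
    exact aux (e3 k hk a _ a3) b (z3 k hk a a (rr a)).2 (z3 k hk a _ a3.2).2 (e2 _ _ _) (hπ.cent _ (e1 _ _ _))
  refine ⟨e 0 (by norm_num) 0, Z, e1 _ _ _, e2 _ _ _, z0, z2, fun r hr s hs h1 h2 => ?_⟩
  have := cl_kd r hr s hs h1 h2
  generalize (cl r s 0 : ℕ) = k, cl r s 1 = a, cl r s 2 = b, cl r s 3 = c, cl r s 4 = d at this
  obtain ⟨hk, ⟨a1, a2, a3, a4, a5, a6, a7⟩ | ⟨a1, a2, a3, a4, a5, a6⟩ | ⟨a1, a2, a3, ⟨a4, a5⟩ | ⟨a4, a5⟩⟩⟩ := this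
  · rw [a6, a7, z0, mul_one, a4, a5]
    exact Or.inl (commutatorElement_eq_one_iff_mul_comm.2 (cm k hk a b c d a1 a2 a3).symm)
  · rw [a5, a6, z0, mul_one, a3, a4, ← z1 k hk a c a2.1, ← z1 k hk a b a1, ← z1 k hk b _ ⟨fun e => a2.2.2 (by
      rw [← e, Fin.rev_rev]), rv a2.2.1⟩]
    exact Or.inl (y2 k hk a b c a1 a2)
  · rw [a4, a5, a2, a3, ← e4 _ k hk a rfl]
    exact Or.inr (e3 k hk a c a1)
  · rw [a4, a5, a2, a3, ← e4 _ k hk a rfl, ← cm k hk a a a c (rr a) a1.2 ⟨rr a, fun e => a1.2 (by rw [e, Fin.rev_rev]), rr a,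
      fun e => a1.2 (by rw [e, Fin.rev_rev])⟩]
    exact Or.inr (e3 k hk a c a1)

end Cfsg.Lib.Comp.F42x
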