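/-
The presentation of `F₄(2)` by its root elements, and the upper bound for the multiplier.
-/
import Cfsg.Agent.Lib.Comp.F42x.Up

set_option autoImplicit false

namespace Cfsg.Lib.Comp.F42x

open Cfsg.Lie Cfsg.Lib.Chev Cfsg.Lib.Linear
open scoped commutatorElement

variable {R : RootSys (Fin chevF4.rank) (Fin chevF4.nroots)} {K : Type*} [Field K] {G H : Type*} [Group G] [Group H]

theorem cast_two (hK : ∀ t : K, t = 0 ∨ t = 1) (c : ℤ) : (c : K) = if c % 2 = 1 then 1 else 0 := by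
  have two : (2 : K) = 0 := (hK _).resolve_right fun e => one_ne_zero (α := K) (by linear_combination e)
  obtain ⟨d, rfl | rfl⟩ := Int.even_or_odd' c
  · rw [if_neg (by omega)]; simp [two]
  · rw [if_pos (by omega)]; simp [two]

theorem prod_terms (hc : Compat chevF4 R) (hK : ∀ t : K, t = 0 ∨ t = 1) {x : Fin chevF4.nroots → K → H} {z : ℕ → H}
    (h0 : ∀ r, x r 0 = 1) (h1 : ∀ r, x r 1 = z r) (h2 : z 48 = 1) {r s : Fin chevF4.nroots} (e : s ≠ r) (e' : s ≠ R.neg r) :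
    ((termsF chevF4 r s).map fun c => x c.1 ((c.2.1 : K) * (-1) ^ c.2.2.1 * 1 ^ c.2.2.2)).prod = z (t1 r s) * z (t2 r s) := by
  have n1 : (-1 : K) = 1 := (hK _).resolve_left (by simp)
  have e1 : ((termsF chevF4 r s).map fun c => x c.1 ((c.2.1 : K) * (-1) ^ c.2.2.1 * 1 ^ c.2.2.2)) = (tl r s).map z := by
    rw [tl, ← hc.map_termsF, List.map_map, List.map_map]
    refine List.map_congr_left fun c _ => ?_
    simp only [n1, one_pow, mul_one, cast_two hK, Function.comp]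
    split_ifs
    · exact h1 _
    · rw [h0, h2]
  rw [e1]
  obtain ⟨a, b, c⟩ | ⟨a, b⟩ | a := terms_eq r r.2 s s.2 (Fin.val_ne_of_ne e) (neg_eq r r.2 ▸ hc.ne_neg_val e') <;>
    simp [*]

theorem comm_iff {a b p : H} (ha : a * a = 1) (hb : b * b = 1) : b * a = a * b * p ↔ ⁅b, a⁆ = p := by
  rw [commutatorElement_def, inv_eq_of_mul_eq_one_left ha, inv_eq_of_mul_eq_one_left hb, ← inv_mul_eq_iff_eq_mul, mul_inv_rev,
    inv_eq_of_mul_eq_one_left ha, inv_eq_of_mul_eq_one_left hb, mul_assoc (b * a)]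

/-- The root elements. -/
noncomputable def X (S : PreSys R K G) (r : ℕ) : G := if h : r < 48 then S.x ⟨r, h⟩ 1 else 1

theorem X_val (S : PreSys R K G) (r : Fin chevF4.nroots) : S.x r 1 = X S r := by
  rw [X, dif_pos (show (r : ℕ) < 48 from r.2)]

theorem rel_X (hc : Compat chevF4 R) (hK : ∀ t : K, t = 0 ∨ t = 1) {S : PreSys R K G}
    (hE : S.Exact fun r s => termsF chevF4 r s) : Rel (X S) := by
  have sq : ∀ r < 48, X S r * X S r = 1 := fun r hr => by
    have := x_sq_two (S := S) hK ⟨r, hr⟩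
    rwa [X_val] at this
  refine ⟨rfl, sq, fun r hr s hs h1 h2 => ?_⟩
  have a : (⟨s, hs⟩ : Fin chevF4.nroots) ≠ ⟨r, hr⟩ := fun e => h1 (congrArg Fin.val e)
  have b : (⟨s, hs⟩ : Fin chevF4.nroots) ≠ R.neg ⟨r, hr⟩ := hc.ne_neg_of_val (by rw [neg_eq r hr]; exact h2)
  have := hE _ _ a b 1 1
  rw [prod_terms hc hK S.x_zero (X_val S) rfl a b, X_val, X_val] at this
  exact (comm_iff (sq r hr) (sq s hs)).1 this

theorem cj_X (hc : Compat chevF4 R) (hK : ∀ t : K, t = 0 ∨ t = 1) {S : PreSys R K G} (hS : S.St) : Cj (X S) :=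
  fun r hr s hs => by
  have := act_two hK (hS.act_n ⟨r, hr⟩ one_ne_zero) ⟨s, hs⟩
  have e : (R.refl ⟨r, hr⟩ ⟨s, hs⟩ : ℕ) = rf r s := co_inj _ (Fin.is_lt _) _ (rf_co r hr s hs).1 fun i hi => by
    rw [(rf_co r hr s hs).2 i hi, ← hc.co_eq _ ⟨i, hi⟩, R.co_refl, Pi.sub_apply, Pi.smul_apply, hc.co_eq, hc.co_eq, hc.pair_eq]
    rfl
  rwa [RootSys.reflPerm_apply, PreSys.n, show (-1⁻¹ : K) = 1 from (hK _).resolve_left (by simp), X_val, X_val, X_val, X_val, e,
    hc.neg_eq, neg_eq r hr] at this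

variable (hc : Compat chevF4 R) {η : ℕ → ℕ → ℤ} (hm : MatOK chevF4 η) (hK : ∀ t : K, t = 0 ∨ t = 1)
include hK

theorem exists_hom [Finite K] {z : ℕ → H} (h : Rel z) :
    ∃ φ : chevF4.group K →* H, ∀ r < 48, φ (X (hc.gsys hm K) r) = z r := by
  classical
  have two : (1 + 1 : K) = 0 := (hK _).resolve_right (by simp)
  have hE : ∀ r s : Fin chevF4.nroots, s ≠ r → s ≠ R.neg r → ∀ t u : K,
      (if u = 0 then 1 else z s) * (if t = 0 then 1 else z r) = (if t = 0 then 1 else z r) * (if u = 0 then 1 else z s) *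
      ((termsF chevF4 r s).map fun c => if (c.2.1 : K) * (-t) ^ c.2.2.1 * u ^ c.2.2.2 = 0 then 1 else z c.1).prod :=
    fun r s e e' t u => by
    rcases hK t with rfl | rfl
    · rw [List.prod_eq_one]
      · simp
      · intro g hg
        obtain ⟨c, hc', rfl⟩ := List.mem_map.1 hg
        have := (hc.mem_termsF hc').1
        rw [if_pos (by rw [neg_zero, zero_pow (by omega)]; simp)]
    rcases hK u with rfl | rfl
    · rw [List.prod_eq_one]
      · simp
      · intro g hg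
        obtain ⟨c, hc', rfl⟩ := List.mem_map.1 hg
        have := (hc.mem_termsF hc').2.1
        rw [if_pos (by rw [zero_pow (by omega)]; simp)]
    rw [prod_terms hc hK (x := fun r t => if t = 0 then 1 else z r) (z := z) (by simp) (by simp) h.one e e', if_neg one_ne_zero,
      if_neg one_ne_zero]
    exact (comm_iff (h.sq r r.2) (h.sq s s.2)).2
      (h.cm r r.2 s s.2 (Fin.val_ne_of_ne e) (neg_eq r r.2 ▸ hc.ne_neg_val e'))
  let S : PreSys R K H := PreSys.ofExact hc.terms (fun r t => if t = 0 then 1 else z r) (fun r t u => by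
    rcases hK t with rfl | rfl <;> rcases hK u with rfl | rfl <;> simp [two, h.sq r r.2]) hE
  obtain ⟨ψ, hψ⟩ := hc.exists_st_hom (S := S) hE (hc.st_of_exact hm (by simp) (S := S) hE).mult_of_finite
  obtain ⟨θ, hθ⟩ := hc.exists_st_proj hm (K := K)
  obtain ⟨e⟩ := hc.st_center_equiv hm (K := K) (by simp)
  have hk : θ.ker = ⊥ := by
    rw [hc.ker_eq_center hm (hc.st_of_exact hm (by simp) hc.st_exact) hc.st_gen hθ, ← Subgroup.card_eq_one,
      ← Nat.card_congr e.toEquiv, card_cartanKer_F4 hc]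
  let e' := MulEquiv.ofBijective θ ⟨θ.ker_eq_bot_iff.1 hk, PreSys.surjective_of_gen hθ (hc.ggen hm)⟩
  refine ⟨ψ.comp e'.symm.toMonoidHom, fun r hr => ?_⟩
  have : e'.symm (X (hc.gsys hm K) r) = (hc.stSys K).x ⟨r, hr⟩ 1 := by
    rw [MulEquiv.symm_apply_eq]; exact ((hθ _ _).trans (X_val _ ⟨r, hr⟩)).symm
  exact (congrArg ψ this).trans ((hψ _ _).trans (if_neg one_ne_zero))

theorem hom_ext {φ ψ : chevF4.group K →* H} (h : ∀ r < 48, φ (X (hc.gsys hm K) r) = ψ (X (hc.gsys hm K) r)) : φ = ψ :=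
  PreSys.hom_ext (hc.ggen hm) fun r t => by
    rcases hK t with rfl | rfl
    · rw [PreSys.x_zero, map_one, map_one]
    · rw [X_val]; exact h r r.2

include hc hm in
theorem upper [Finite K] {Γ : Type*} [Group Γ] {σ : Γ →* chevF4.group K} (hσ : IsStemExtension σ) :
    ∃ z ∈ σ.ker, z ^ 2 = 1 ∧ σ.ker ≤ Subgroup.zpowers z := by
  have hπ := CExt.of_ker_le hσ.1 hσ.2.1
  obtain ⟨ε, Z, a, b, c, d, e⟩ := exists_lift (rel_X hc hK (hc.gexact hm)) (cj_X hc hK (hc.gst hm)) hπ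
  have hN : Subgroup.zpowers ε ≤ σ.ker := Subgroup.zpowers_le.2 a
  have : (Subgroup.zpowers ε).Normal := ⟨fun n hn g => by rwa [hπ.conj_ker (hN hn)]⟩
  let q := QuotientGroup.mk' (Subgroup.zpowers ε)
  have q1 : q ε = 1 := (QuotientGroup.eq_one_iff _).2 (Subgroup.mem_zpowers ε)
  obtain ⟨φ, hφ⟩ := exists_hom hc hm hK (z := fun r => q (Z r)) ⟨by rw [c, map_one], fun r hr => by
    rw [← map_mul, (d r hr).2, map_one], fun r hr s hs h1 h2 => by
    rw [← map_commutatorElement]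
    obtain h | h := e r hr s hs h1 h2 <;> rw [h] <;> simp [q1]⟩
  let π := QuotientGroup.lift (Subgroup.zpowers ε) σ hN
  have hπ' : CExt π := ⟨fun g => (hσ.1 g).elim fun a ha => ⟨q a, ha⟩, fun c hc g => by
    obtain ⟨c, rfl⟩ := QuotientGroup.mk'_surjective _ c
    obtain ⟨g, rfl⟩ := QuotientGroup.mk'_surjective _ g
    rw [← map_mul, ← map_mul, hπ.cent c hc]⟩
  have h1 : π.comp φ = MonoidHom.id _ := hom_ext hc hm hK fun r hr => by
    rw [MonoidHom.comp_apply, hφ r hr]; exact (d r hr).1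
  have h2 : commutator Γ ≤ q.eqLocus (φ.comp σ) := by
    rw [commutator_eq_closure, Subgroup.closure_le]
    rintro _ ⟨u, v, rfl⟩
    change q _ = (φ.comp σ) _
    rw [map_commutatorElement, map_commutatorElement]
    exact hπ'.comm_congr (DFunLike.congr_fun h1 (σ u)).symm (DFunLike.congr_fun h1 (σ v)).symm
  refine ⟨ε, a, by rw [sq, b], fun g hg => (QuotientGroup.eq_one_iff _).1 ?_⟩
  have h3 : q g = φ (σ g) := h2 (hσ.2.2 hg)
  rwa [show σ g = 1 from hg, map_one] at h3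

end Cfsg.Lib.Comp.F42x
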