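/-
The double cover of `F₄(2)`.
-/
import Cfsg.Agent.Lib.Comp.F42x.Pres
import Cfsg.Agent.Lib.Comp.F42x.Ma1
import Cfsg.Agent.Lib.Comp.F42x.Ma2
import Cfsg.Agent.Lib.Mult.Hopf

set_option autoImplicit false
set_option maxRecDepth 100000

namespace Cfsg.Lib.Comp.F42x

open Cfsg.Lie Cfsg.Lib.Chev Cfsg.Lib.MatB.T3
open scoped commutatorElement

theorem exists_gl {A : ℕ} (h : Nat.beq (mM 52 mR A A) mI = true) : ∃ u : GL (Fin 52) (ZMod 3), MatB.T3.Rp 52 u A := by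
  have : tM 52 A * tM 52 A = 1 := by rw [← tM_mM, ← cx.hR, beq_tt.1 h, cx.hI]
  exact ⟨⟨_, _, this, this⟩, rfl⟩

theorem chk_all : ∀ r < 48, ∀ s < 48, chk mR r s = true := fun r hr s hs => by
  have key : ∀ a, chkR a = true → ∀ r < 8, chk mR (a + r) s = true := fun a h r hr => by
    rw [chkR, forceH_eq] at h
    exact allN_iff.1 (allN_iff.1 h r hr) s hs
  have : ∀ a ∈ [0, 8, 16, 24, 32, 40], chkR a = true := by simp [c0, c1, c2, c3, c4, c5]
  have := key (8 * (r / 8)) (this _ (by simp; omega)) (r % 8) (by omega)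
  rwa [Nat.div_add_mod] at this

theorem exists_rep : ∃ (n : GL (Fin 52) (ZMod 3)) (u : ℕ → GL (Fin 52) (ZMod 3)), n * n = 1 ∧ n ≠ 1 ∧ u 48 = 1 ∧
    (∀ r < 49, u r * u r = 1 ∧ n * u r = u r * n) ∧ ∀ r < 48, ∀ s < 48, s ≠ r → s ≠ 47 - r →
      (t2 r s = 48 → ⁅u s, u r⁆ = u (t1 r s) * u (t2 r s)) ∧ (t2 r s ≠ 48 → n * ⁅u s, u r⁆ = u (t1 r s) * u (t2 r s)) := by
  have h1 := sq_b
  rw [forceH_eq] at h1
  replace h1 := fun r hr => cnd_tt.1 (allN_iff.1 h1 r hr)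
  obtain ⟨n, hn⟩ := exists_gl nn_b.1
  have : ∀ r, ∃ u : GL (Fin 52) (ZMod 3), r < 49 → MatB.T3.Rp 52 u (mm r) := fun r => by
    by_cases hr : r < 49
    · exact (exists_gl (h1 r hr).1).imp fun _ h _ => h
    · exact ⟨1, fun h => absurd h hr⟩
  choose u hu using this
  have u0 : u 48 = 1 := (hu 48 (by norm_num)).eq cx.one nn_b.2.1
  refine ⟨n, u, (cx.mul hn hn).eq cx.one nn_b.1, hn.ne cx.one (by norm_num) nn_b.2.2, u0, fun r hr =>
    ⟨(cx.mul (hu r hr) (hu r hr)).eq cx.one (h1 r hr).1, (cx.mul hn (hu r hr)).eq (cx.mul (hu r hr) hn) (h1 r hr).2⟩,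
    fun r hr s hs e e' => ?_⟩
  have h := chk_all r hr s hs
  have f : ∀ {a b : ℕ}, a ≠ b → Nat.beq a b = false := fun h => by simpa [← Bool.not_eq_true, Nat.beq_eq] using h
  rw [chk, forceH_eq, forceH_eq, f e, f e', cnd_false, cnd_false] at h
  have a := hu r (by omega)
  have b := hu s (by omega)
  have c := hu (t1 r s) (Nat.lt_succ_of_le (t_le r hr s hs).1)
  have d := hu (t2 r s) (Nat.lt_succ_of_le (t_le r hr s hs).2)
  refine ⟨fun e2 => ?_, fun e2 => ?_⟩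
  · rw [beq_tt.2 e2, cnd_true] at h
    rw [e2, u0, mul_one, commutatorElement_def, mul_assoc, ← mul_inv_rev, mul_inv_eq_iff_eq_mul]
    by_cases e1 : t1 r s = 48
    · rw [beq_tt.2 e1, cnd_true] at h
      rw [e1, u0, one_mul]
      exact (cx.mul b a).eq (cx.mul a b) h
    · rw [f e1, cnd_false] at h
      exact (cx.mul b a).eq (cx.mul c (cx.mul a b)) h
  · rw [f e2, cnd_false] at h
    rw [commutatorElement_def, mul_assoc (u s * u r), ← mul_inv_rev, ← mul_assoc, mul_inv_eq_iff_eq_mul, mul_assoc (u (t1 r s))]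
    exact (cx.mul hn (cx.mul b a)).eq (cx.mul c (cx.mul d (cx.mul a b))) h

theorem exists_pair : ∃ r < 48, ∃ s < 48, s ≠ r ∧ s ≠ 47 - r ∧ t1 r s < 48 ∧ t2 r s < 48 := by decide +kernel

universe u

theorem cover {G M : Type*} [Group G] [Group M] {x : ℕ → G} (hx : Rel x) {n : M} {u : ℕ → M} (h2 : n ≠ 1)
    (h3 : u 48 = 1) (h4 : ∀ r < 49, u r * u r = 1 ∧ n * u r = u r * n) (h5 : ∀ r < 48, ∀ s < 48, s ≠ r → s ≠ 47 - r →
      (t2 r s = 48 → ⁅u s, u r⁆ = u (t1 r s) * u (t2 r s)) ∧ (t2 r s ≠ 48 → n * ⁅u s, u r⁆ = u (t1 r s) * u (t2 r s)))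
    (hp : ∀ (N : Subgroup (Subgroup.centralizer {n})) [N.Normal] (z : ℕ → Subgroup.centralizer {n} ⧸ N), Rel z →
      ∃ φ : G →* _, ∀ r < 48, φ (x r) = z r) :
    ∃ (Γ : Subgroup (G × Subgroup.centralizer {n})) (σ : Γ →* G), IsStemExtension σ ∧ Nontrivial σ.ker := by
  let C := Subgroup.centralizer {n}
  let m : C := ⟨n, Subgroup.mem_centralizer_singleton_iff.2 rfl⟩
  have mc : ∀ g : C, g * m = m * g := fun g => Subtype.ext (Subgroup.mem_centralizer_singleton_iff.1 g.2)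
  have hN : Subgroup.zpowers m ≤ Subgroup.center C := Subgroup.zpowers_le.2 (Subgroup.mem_center_iff.2 mc)
  have : (Subgroup.zpowers m).Normal := ⟨fun a ha g => by rwa [Subgroup.mem_center_iff.1 (hN ha), mul_inv_cancel_right]⟩
  obtain ⟨v, hv⟩ : ∃ v : ℕ → C, ∀ r < 49, (v r : M) = u r :=
    ⟨fun r => if h : r < 49 then ⟨u r, Subgroup.mem_centralizer_singleton_iff.2 (h4 r h).2.symm⟩ else 1,
      fun r hr => by simp only [dif_pos hr]⟩
  have v5 : ∀ r < 48, ∀ s < 48, s ≠ r → s ≠ 47 - r →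
      (t2 r s = 48 → ⁅v s, v r⁆ = v (t1 r s) * v (t2 r s)) ∧ (t2 r s ≠ 48 → m * ⁅v s, v r⁆ = v (t1 r s) * v (t2 r s)) :=
    fun r hr s hs a b => by
    have c := t_le r hr s hs
    have d := h5 r hr s hs a b
    rw [← hv r (by omega), ← hv s (by omega), ← hv (t1 r s) (by omega), ← hv (t2 r s) (by omega)] at d
    exact ⟨fun e => Subtype.ext (d.1 e), fun e => Subtype.ext (d.2 e)⟩
  have v0 : v 48 = 1 := Subtype.ext ((hv 48 (by norm_num)).trans h3)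
  let q := QuotientGroup.mk' (Subgroup.zpowers m)
  have q1 : q m = 1 := (QuotientGroup.eq_one_iff _).2 (Subgroup.mem_zpowers m)
  obtain ⟨φ, hφ⟩ := hp (Subgroup.zpowers m) (fun r => q (v r)) ⟨by rw [v0, map_one], fun r hr => by
    rw [← map_mul, show v r * v r = 1 from Subtype.ext (by
      rw [Subgroup.coe_mul, hv r (by omega)]; exact (h4 r (by omega)).1), map_one], fun r hr s hs a b => by
    rw [← map_commutatorElement, ← map_mul]
    by_cases e : t2 r s = 48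
    · rw [(v5 r hr s hs a b).1 e]
    · rw [← (v5 r hr s hs a b).2 e, map_mul, q1, one_mul]⟩
  let Γ := (φ.comp (MonoidHom.fst G C)).eqLocus (q.comp (MonoidHom.snd G C))
  let σ : Γ →* G := (MonoidHom.fst G C).comp Γ.subtype
  let μ : Γ := ⟨(1, m), (map_one φ).trans q1.symm⟩
  have hk : σ.ker ≤ Subgroup.zpowers μ := fun c hc => by
    have a : c.1.1 = 1 := hc
    have b : φ c.1.1 = q c.1.2 := c.2
    rw [a, map_one] at b
    obtain ⟨k, hk⟩ := (QuotientGroup.eq_one_iff _).1 b.symm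
    exact ⟨k, Subtype.ext (Prod.ext (by simp [μ, a]) hk)⟩
  obtain ⟨w, hw⟩ : ∃ w : ℕ → Γ, ∀ r < 48, (w r).1 = (x r, v r) :=
    ⟨fun r => if h : r < 48 then ⟨(x r, v r), hφ r h⟩ else 1, fun r hr => by simp only [dif_pos hr]⟩
  have w1 : ∀ r < 48, w r ∈ commutator Γ := fun r hr => by
    obtain ⟨a, b, c, d, e, f⟩ := ds_tm r hr
    have : w r = ⁅w (ds r), w (dt r)⁆ := Subtype.ext (by
      change _ = ⁅(w (ds r)).1, (w (dt r)).1⁆
      rw [hw r hr, hw _ a, hw _ b]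
      refine Prod.ext ?_ ?_
      · exact ((hx.cm _ a _ b c d).trans (by rw [e, f, hx.one, mul_one])).symm
      · exact (((v5 _ a _ b c d).1 f).trans (by rw [e, f, v0, mul_one])).symm)
    rw [this]; exact Subgroup.commutator_mem_commutator (Subgroup.mem_top _) (Subgroup.mem_top _)
  refine ⟨Γ, σ, ⟨fun g => ?_, hk.trans (Subgroup.zpowers_le.2 (Subgroup.mem_center_iff.2 fun g =>
    Subtype.ext (Prod.ext (by simp [μ]) (mc g.1.2)))), hk.trans (Subgroup.zpowers_le.2 ?_)⟩,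
    ⟨⟨μ, rfl⟩, 1, fun e => h2 (congrArg (fun c : σ.ker => (c.1.1.2 : M)) e)⟩⟩
  · obtain ⟨c, hc⟩ := QuotientGroup.mk'_surjective _ (φ g)
    exact ⟨⟨(g, c), hc.symm⟩, rfl⟩
  · obtain ⟨r, hr, s, hs, a, b, c, d⟩ := exists_pair
    have : μ * ⁅w s, w r⁆ = w (t1 r s) * w (t2 r s) := Subtype.ext (by
      change μ.1 * ⁅(w s).1, (w r).1⁆ = (w _).1 * (w _).1
      rw [hw r hr, hw s hs, hw _ c, hw _ d]
      exact Prod.ext ((one_mul _).trans (hx.cm r hr s hs a b)) ((v5 r hr s hs a b).2 d.ne))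
    rw [eq_mul_inv_of_mul_eq this]
    exact mul_mem (mul_mem (w1 _ c) (w1 _ d))
      (inv_mem (Subgroup.commutator_mem_commutator (Subgroup.mem_top _) (Subgroup.mem_top _)))

theorem mult_of {G M : Type*} [Group G] [Group M] [Finite G] [Finite M] {x : ℕ → G} (hx : Rel x) {n : M} {u : ℕ → M} (h2 : n ≠ 1)
    (h3 : u 48 = 1) (h4 : ∀ r < 49, u r * u r = 1 ∧ n * u r = u r * n) (h5 : ∀ r < 48, ∀ s < 48, s ≠ r → s ≠ 47 - r →
      (t2 r s = 48 → ⁅u s, u r⁆ = u (t1 r s) * u (t2 r s)) ∧ (t2 r s ≠ 48 → n * ⁅u s, u r⁆ = u (t1 r s) * u (t2 r s)))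
    (hp : ∀ (N : Subgroup (Subgroup.centralizer {n})) [N.Normal] (z : ℕ → Subgroup.centralizer {n} ⧸ N), Rel z →
      ∃ φ : G →* _, ∀ r < 48, φ (x r) = z r)
    (hu : ∀ (Γ : Subgroup (G × Subgroup.centralizer {n})) (σ : Γ →* G), IsStemExtension σ →
      ∃ z ∈ σ.ker, z ^ 2 = 1 ∧ σ.ker ≤ Subgroup.zpowers z) :
    ∃ (Γ : Subgroup (G × Subgroup.centralizer {n})) (_ : Finite Γ) (σ : Γ →* G), IsStemExtension σ ∧ Nat.card σ.ker = 2 := by
  obtain ⟨Γ, σ, hσ, hn⟩ := cover hx h2 h3 h4 h5 hp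
  obtain ⟨z, -, a, b⟩ := hu Γ σ hσ
  have c := (Subgroup.card_dvd_of_le b).trans (Nat.card_zpowers z ▸ orderOf_dvd_of_pow_eq_one a)
  exact ⟨Γ, inferInstance, σ, hσ, ((Nat.dvd_prime Nat.prime_two).1 c).resolve_left (Finite.one_lt_card (α := σ.ker)).ne'⟩

theorem mult {K : Type u} [Field K] [Finite K] (hK : ∀ t : K, t = 0 ∨ t = 1) :
    HasCyclicSchurMultiplier (chevF4.group K) 2 := by
  obtain ⟨R, η, hc, hm⟩ := good_of_mem (D := chevF4) (by simp)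
  obtain ⟨n, u, -, h2, h3, h4, h5⟩ := exists_rep
  have : Finite (chevF4.group K) := inferInstance
  have : Finite (GL (Fin 52) (ZMod 3)) := inferInstance
  obtain ⟨Γ, _, σ, hσ, hn⟩ := mult_of (rel_X hc hK (hc.gexact hm)) h2 h3 h4 h5 (fun _ _ _ h => exists_hom hc hm hK h)
    fun _ _ hσ => upper hc hm hK hσ
  exact Mult.mult_cyclic_of hσ hn fun Γ _ _ σ hσ => upper hc hm hK hσ

end Cfsg.Lib.Comp.F42x
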